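import Mathlib
import Groth.Agent.RegLocal.Consequences
import Groth.Agent.RegLocal.Complete
import Groth.Agent.Depth.FlatLocal

/-!
Completions of regular rings are regular.
-/

set_option autoImplicit false
set_option linter.style.haveILetI false
universe u
open IsLocalRing

namespace Groth.Agent.RegComplLib

/-- Regularity is detected at maximal ideals. -/
theorem isRegularRing_of_isMaximal (R : Type u) [CommRing R] [IsNoetherianRing R]
    (h : ∀ M : Ideal R, ∀ [M.IsMaximal], IsRegularLocalRing (Localization.AtPrime M)) : IsRegularRing R := by
  refine ⟨fun q hq => ?_⟩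
  obtain ⟨M, hM, hle⟩ := Ideal.exists_le_maximal q hq.ne_top
  haveI := hM
  haveI := h M
  let L := Localization.AtPrime M
  have hdisj : Disjoint (M.primeCompl : Set R) (q : Set R) :=
    Set.disjoint_left.2 fun x hx hx' => hx (hle hx')
  haveI hq' : (q.map (algebraMap R L)).IsPrime := IsLocalization.isPrime_of_isPrime_disjoint M.primeCompl L q hq hdisj
  haveI := RegLocal.isRegularLocalRing_localization L (q.map (algebraMap R L))
  have hco : (q.map (algebraMap R L)).comap (algebraMap R L) = q :=
    IsLocalization.under_map_of_isPrime_disjoint M.primeCompl L hq hdisj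
  haveI h1 : IsLocalization.AtPrime (Localization.AtPrime (q.map (algebraMap R L)))
      ((q.map (algebraMap R L)).comap (algebraMap R L)) :=
    IsLocalization.isLocalization_isLocalization_atPrime_isLocalization M.primeCompl _ _
  haveI h2 : IsLocalization q.primeCompl (Localization.AtPrime (q.map (algebraMap R L))) := by
    have h1' : IsLocalization ((q.map (algebraMap R L)).comap (algebraMap R L)).primeCompl
      (Localization.AtPrime (q.map (algebraMap R L))) := h1
    convert h1' using 2
    exact hco.symm
  exact IsRegularLocalRing.of_ringEquiv (IsLocalization.algEquiv q.primeCompl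
    (Localization.AtPrime (q.map (algebraMap R L))) (Localization.AtPrime q)).toRingEquiv

theorem isRegularRing_adicCompletion (A : Type u) [CommRing A] [IsRegularRing A] (J : Ideal A) :
    IsRegularRing (AdicCompletion J A) := by
  have fg := J.fg_of_isNoetherianRing
  let T := AdicCompletion J A
  let f := algebraMap A T
  haveI : IsNoetherianRing T := RegLocal.isNoetherianRing_adicCompletion J fg
  have hc := AdicCompletion.isAdicComplete_self J fg
  refine isRegularRing_of_isMaximal T fun M hM => ?_
  have hJM : J.map f ≤ M := (IsAdicComplete.le_jacobson_bot _).trans <| sInf_le ⟨bot_le, hM⟩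
  let m := M.comap f
  have hMm : m.map f = M := by
    refine le_antisymm Ideal.map_comap_le fun x hx => ?_
    obtain ⟨a, ha⟩ := Ideal.Quotient.mk_surjective ((AdicCompletion.evalOneₐ J).toRingHom x)
    have hker : x - f a ∈ RingHom.ker (AdicCompletion.evalOneₐ J).toRingHom := by
      rw [RingHom.mem_ker, map_sub, ← ha, sub_eq_zero]; rfl
    rw [AdicCompletion.ker_evalOneₐ_eq_map J fg] at hker
    have ham : a ∈ m := by
      show f a ∈ M
      rw [show f a = x - (x - f a) by ring]
      exact sub_mem hx (hJM hker)
    rw [show x = (x - f a) + f a by ring]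
    refine add_mem (Ideal.map_mono ?_ hker) (Ideal.mem_map_of_mem f ham)
    exact Ideal.map_le_iff_le_comap.1 hJM
  let Am := Localization.AtPrime m
  let TM := Localization.AtPrime M
  letI : Algebra Am TM := (Localization.localRingHom m M f rfl).toAlgebra
  haveI : IsScalarTower A Am TM := IsScalarTower.of_algebraMap_eq fun a => by
    show _ = Localization.localRingHom m M f rfl (algebraMap A Am a)
    rw [Localization.localRingHom_to_map, ← IsScalarTower.algebraMap_apply A T TM]
  haveI : IsNoetherianRing TM := IsLocalization.isNoetherianRing M.primeCompl TM inferInstance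
  haveI : Module.Flat T TM := IsLocalization.flat TM M.primeCompl
  haveI : Module.Flat A TM := Module.Flat.trans A T TM
  haveI : Module.Flat Am TM := (Module.flat_iff_of_isLocalization Am m.primeCompl TM).2 inferInstance
  have hmax : (maximalIdeal Am).map (algebraMap Am TM) = maximalIdeal TM := by
    rw [← Localization.AtPrime.map_eq_maximalIdeal, ← Localization.AtPrime.map_eq_maximalIdeal, Ideal.map_map,
      ← IsScalarTower.algebraMap_eq A Am TM, IsScalarTower.algebraMap_eq A T TM, ← Ideal.map_map]
    rw [hMm]
  exact (Depth.isRegularLocalRing_iff_of_map_maximalIdeal Am TM hmax).2 inferInstance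

end Groth.Agent.RegComplLib
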